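import Mathlib
import Cfsg.Agent.Hall.Taussky
import Cfsg.Agent.S4143
import Cfsg.Prelude.Def_CaseTheorems

/-!
`2`-groups with a small self-centralising subgroup are dihedral, quaternion or semidihedral.
-/

set_option autoImplicit false
set_option linter.style.haveILetI false

namespace CfsgLib.MetaTwo

variable {G : Type*} [Group G] [Finite G]

lemma pow_val {m : ℕ} [NeZero m] {a : G} (ha : a ^ m = 1) (i j : ZMod m) :
    a ^ ((i.val : ℤ)) * a ^ ((j.val : ℤ)) = a ^ (((i + j).val : ℤ)) := by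
  rw [← zpow_add, zpow_eq_zpow_emod' (m := (i.val : ℤ) + j.val) ha, ZMod.val_add]
  push_cast
  rfl

theorem iso_types {n : ℕ} (hn : 3 ≤ n) (hG : Nat.card G = 2 ^ n) (hi : (commutator G).index = 4) :
    (∃ m, Nonempty (G ≃* DihedralGroup m)) ∨ (∃ m, Nonempty (G ≃* QuaternionGroup m)) ∨ Cfsg.IsQuasiDihedral G := by
  obtain ⟨a, b, ha, hb, hidx, htype⟩ := CfsgLib.Hall.Taussky.struct n hn hG hi
  obtain ⟨k, rfl⟩ : ∃ k, n = k + 3 := ⟨n - 3, by omega⟩
  simp only [show k + 3 - 1 = k + 2 by omega, show k + 3 - 2 = k + 1 by omega] at ha htype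
  have hcover : ∀ x : G, (∃ i : ℤ, x = a ^ i) ∨ (∃ i : ℤ, x = b * a ^ i) := by
    intro x
    by_cases hx : x ∈ Subgroup.zpowers a
    · obtain ⟨i, rfl⟩ := Subgroup.mem_zpowers_iff.1 hx
      exact Or.inl ⟨i, rfl⟩
    · have h : b⁻¹ * x ∈ Subgroup.zpowers a := by
        rw [Subgroup.mul_mem_iff_of_index_two hidx]; simp [hx, hb]
      obtain ⟨i, hi⟩ := Subgroup.mem_zpowers_iff.1 h
      exact Or.inr ⟨i, by rw [hi, mul_inv_cancel_left]⟩
  have hinv : b * a * b⁻¹ = a⁻¹ → ∀ i : ℤ, a ^ i * b = b * a ^ (-i) := fun h i => by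
    have h1 : b * a ^ (-i) * b⁻¹ = a ^ i := by rw [← conj_zpow, h, inv_zpow, zpow_neg, inv_inv]
    rw [← h1]; group
  rcases htype with ⟨hb2, hba⟩ | ⟨hb2, hba⟩ | ⟨h4, hb2, hba⟩
  · left
    haveI : NeZero (2 ^ (k + 2)) := ⟨by positivity⟩
    have ham : a ^ (2 ^ (k + 2)) = 1 := ha ▸ pow_orderOf_eq_one a
    let e : ZMod (2 ^ (k + 2)) → G := fun i => a ^ (i.val : ℤ)
    have hadd : ∀ i j, e i * e j = e (i + j) := fun i j => pow_val ham i j
    have hneg : ∀ i, (e i)⁻¹ = e (-i) := fun i => inv_eq_of_mul_eq_one_right (by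
      rw [hadd, add_neg_cancel]; simp [e])
    have hsw : ∀ i, e i * b = b * e (-i) := fun i => by
      rw [← hneg]; show a ^ (i.val : ℤ) * b = b * (a ^ (i.val : ℤ))⁻¹
      rw [← zpow_neg]; exact hinv hba _
    let f : DihedralGroup (2 ^ (k + 2)) →* G :=
      MonoidHom.mk' (fun d => match d with | .r i => e i | .sr i => b * e i) (by
        rintro (i | i) (j | j)
        · exact (hadd i j).symm
        · show b * e (j - i) = e i * (b * e j)
          rw [← mul_assoc, hsw, mul_assoc, hadd, neg_add_eq_sub]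
        · show b * e (i + j) = b * e i * e j
          rw [mul_assoc, hadd]
        · show e (j - i) = b * e i * (b * e j)
          rw [mul_assoc b, ← mul_assoc (e i), hsw, ← mul_assoc, ← mul_assoc, ← pow_two, hb2, one_mul, hadd,
            neg_add_eq_sub])
    have hfs : Function.Surjective f := fun x => by
      have he : ∀ i : ℤ, e (i : ZMod (2 ^ (k + 2))) = a ^ i := fun i => by
        show a ^ (((i : ZMod (2 ^ (k + 2))).val : ℤ)) = a ^ i
        rw [ZMod.val_intCast, ← zpow_eq_zpow_emod' i ham]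
      rcases hcover x with ⟨i, rfl⟩ | ⟨i, rfl⟩
      · exact ⟨.r i, he i⟩
      · exact ⟨.sr i, show b * e i = _ by rw [he i]⟩
    exact ⟨_, ⟨(MulEquiv.ofBijective f ((Nat.bijective_iff_surjective_and_card f).2 ⟨hfs, by
      rw [DihedralGroup.nat_card, hG, pow_succ' 2 (k + 2)]⟩)).symm⟩⟩
  · right; left
    haveI : NeZero (2 ^ (k + 1)) := ⟨by positivity⟩
    haveI : NeZero (2 * 2 ^ (k + 1)) := ⟨by positivity⟩
    have ham : a ^ (2 * 2 ^ (k + 1)) = 1 := by rw [← pow_succ', ← ha, pow_orderOf_eq_one]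
    let e : ZMod (2 * 2 ^ (k + 1)) → G := fun i => a ^ (i.val : ℤ)
    have hadd : ∀ i j, e i * e j = e (i + j) := fun i j => pow_val ham i j
    have hneg : ∀ i, (e i)⁻¹ = e (-i) := fun i => inv_eq_of_mul_eq_one_right (by
      rw [hadd, add_neg_cancel]; simp [e])
    have hsw : ∀ i, e i * b = b * e (-i) := fun i => by
      rw [← hneg]; show a ^ (i.val : ℤ) * b = b * (a ^ (i.val : ℤ))⁻¹
      rw [← zpow_neg]; exact hinv hba _
    have he : ∀ i : ℤ, e (i : ZMod (2 * 2 ^ (k + 1))) = a ^ i := fun i => by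
      show a ^ (((i : ZMod (2 * 2 ^ (k + 1))).val : ℤ)) = a ^ i
      rw [ZMod.val_intCast, ← zpow_eq_zpow_emod' i ham]
    have hbb : b * b = e ((2 ^ (k + 1) : ℕ) : ZMod (2 * 2 ^ (k + 1))) := by
      rw [← pow_two, hb2, ← Int.cast_natCast, he, zpow_natCast]
    let f : QuaternionGroup (2 ^ (k + 1)) →* G :=
      MonoidHom.mk' (fun d => match d with | .a i => e i | .xa i => b * e i) (by
        rintro (i | i) (j | j)
        · exact (hadd i j).symm
        · show b * e (j - i) = e i * (b * e j)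
          rw [← mul_assoc, hsw, mul_assoc, hadd, neg_add_eq_sub]
        · show b * e (i + j) = b * e i * e j
          rw [mul_assoc, hadd]
        · show e ((2 ^ (k + 1) : ℕ) + j - i) = b * e i * (b * e j)
          rw [mul_assoc b, ← mul_assoc (e i), hsw, ← mul_assoc, ← mul_assoc, hbb, hadd, hadd, add_sub_assoc,
            add_assoc, neg_add_eq_sub])
    have hfs : Function.Surjective f := fun x => by
      rcases hcover x with ⟨i, rfl⟩ | ⟨i, rfl⟩
      · exact ⟨.a i, he i⟩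
      · exact ⟨.xa i, show b * e i = _ by rw [he i]⟩
    exact ⟨_, ⟨(MulEquiv.ofBijective f ((Nat.bijective_iff_surjective_and_card f).2 ⟨hfs, by
      rw [Nat.card_eq_fintype_card, QuaternionGroup.card, hG, show k + 3 = k + 1 + 2 by rfl, pow_add 2 (k + 1) 2]
      ring⟩)).symm⟩⟩
  · right; right
    refine ⟨k + 2, by omega, by rw [hG], a, b, ha, ?_, hba⟩
    refine orderOf_eq_prime hb2 fun h => hb (h ▸ Subgroup.one_mem _)

theorem types_of_self_centralizing (hG : IsPGroup 2 G) {A : Subgroup G}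
    (hC : Subgroup.centralizer (A : Set G) ≤ A) (hA : Nat.card A = 4 ∨ (Nat.card A = 8 ∧ ¬ IsMulCommutative A))
    (hne : A ≠ ⊤) :
    (∃ m, Nonempty (G ≃* DihedralGroup m)) ∨ (∃ m, Nonempty (G ≃* QuaternionGroup m)) ∨ Cfsg.IsQuasiDihedral G := by
  haveI : Fact (Nat.Prime 2) := ⟨Nat.prime_two⟩
  obtain ⟨n, hn⟩ := IsPGroup.iff_card.1 hG
  have hn3 : 3 ≤ n := by
    by_contra h
    have h1 : Nat.card G ≤ 4 := hn ▸ (Nat.pow_le_pow_right (by norm_num) (by omega : n ≤ 2)).trans_eq (by norm_num)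
    refine hne (Subgroup.eq_top_of_card_eq _ ?_)
    have h2 := Subgroup.card_le_card_group A
    omega
  have hcl : Group.nilpotencyClass G = n - 1 := by
    rcases hA with h | ⟨h, hna⟩
    · exact Cfsg.Agent.S4143.maximal_class_of_self_centralizing n G A hn (by rw [h]; norm_num) hC
    · exact Cfsg.Agent.S4143.result n hn A (by rw [h]; norm_num) hna hC
  exact iso_types hn3 hn (CfsgLib.Hall.Taussky.index_commutator_of_class n hn3 hn hcl).1

end CfsgLib.MetaTwo
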