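import Cfsg.Agent.MetaTwo.Aut
import Cfsg.Agent.MetaTwo.Iso
import Cfsg.Agent.Fusion.NormalCriteria
import Cfsg.Agent.MetaResistant.Line
import Cfsg.Agent.S4218

/-!
Metacyclic strongly closed subgroups of `2`-fusion systems are normal, apart from maximal class.
-/

set_option autoImplicit false
set_option linter.style.haveILetI false

open Cfsg
open scoped commutatorElement Pointwise

namespace CfsgLib.MetaTwo

open Cfsg.FusionSystem CfsgLib.Fusion

lemma isMetacyclic_subgroup {R : Type*} [Group R] (H : Subgroup R) (h : Cfsg.IsMetacyclic R) :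
    ∃ (N : Subgroup H) (_ : N.Normal), IsCyclic N ∧ IsCyclic (H ⧸ N) := by
  obtain ⟨M, hM, hMc, hQ⟩ := h
  haveI := hM
  refine ⟨M.subgroupOf H, inferInstance, ?_, ?_⟩
  · haveI := hMc
    exact isCyclic_of_injective ((H.subtype.comp (M.subgroupOf H).subtype).codRestrict M fun x => x.2)
      fun a b hab => Subtype.ext (Subtype.ext (congrArg Subtype.val hab :))
  · haveI := hQ
    refine isCyclic_of_injective (QuotientGroup.map (M.subgroupOf H) M H.subtype le_rfl) ?_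
    rw [injective_iff_map_eq_one]
    intro x hx
    obtain ⟨x, rfl⟩ := QuotientGroup.mk'_surjective _ x
    have hx' : ((x : R) : R ⧸ M) = 1 := hx
    exact (QuotientGroup.eq_one_iff x).2 (Subgroup.mem_subgroupOf.2 ((QuotientGroup.eq_one_iff _).1 hx'))

variable {Ω : Type*} [Group Ω] {S : Subgroup Ω} [Finite S] {F : Cfsg.FusionSystem S} {P : Subgroup Ω}

theorem isNormal_of_metacyclic (hS : IsPGroup 2 S) (hF : F.IsSaturated 2) (hP : F.StronglyClosed P)
    (hm : Cfsg.IsMetacyclic P) (hd : ¬ ∃ m : ℕ, Nonempty (P ≃* DihedralGroup m))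
    (hq : ¬ ∃ m : ℕ, Nonempty (P ≃* QuaternionGroup m)) (hsd : ¬ Cfsg.IsQuasiDihedral P) : F.IsNormal P := by
  classical
  haveI : Fact (Nat.Prime 2) := ⟨Nat.prime_two⟩
  have hPS := hP.1
  have hPn := le_normalizer_of_stronglyClosed hP
  haveI := finite_of_le hPS
  refine isNormal_of_centricRadical hS hF hPS hPn fun R hRn hRc hRr => ?_
  have hRS := hRn.1
  haveI := finite_of_le hRS
  haveI := finite_mulAut (S := S) hRS
  set A := F.autGroup R with hAdef
  have hAP : ∀ γ ∈ A, ∀ x : R, (x : Ω) ∈ P → ((γ x : R) : Ω) ∈ P := fun γ hγ x hx =>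
    hP.2 (R ⊓ P) inf_le_right _ (restrict ((mem_autGroup hRS).1 hγ) inf_le_left) ⟨x, x.2, hx⟩
  refine ⟨?_, hAP⟩
  by_contra hle
  set T : Subgroup Ω := R ⊓ P with hTdef
  haveI : Finite T := finite_of_le (inf_le_right.trans hPS)
  set Φ : Subgroup Ω := (frattini T).map T.subtype with hΦdef
  have hTp : IsPGroup 2 T := hS.to_le (inf_le_right.trans hPS)
  -- automorphisms of `R` restricted to `T`
  have hres : ∀ γ : A, ∃ δ : MulAut T, ∀ t : T, ((δ t : T) : Ω) =
      (((γ : MulAut R) ⟨t, t.2.1⟩ : R) : Ω) := fun γ => by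
    refine ⟨{ toFun := fun t => ⟨((γ : MulAut R) ⟨t, t.2.1⟩ : R), ((γ : MulAut R) _).2, hAP _ γ.2 _ t.2.2⟩
              invFun := fun t => ⟨((γ : MulAut R)⁻¹ ⟨t, t.2.1⟩ : R), ((γ : MulAut R)⁻¹ _).2,
                hAP _ (inv_mem γ.2) _ t.2.2⟩
              left_inv := fun t => Subtype.ext (by simp)
              right_inv := fun t => Subtype.ext (by simp)
              map_mul' := fun a b => Subtype.ext ?_ }, fun t => rfl⟩
    show (((γ : MulAut R) (⟨a, a.2.1⟩ * ⟨b, b.2.1⟩) : R) : Ω) = _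
    rw [map_mul]; rfl
  choose ρ hρ using hres
  have hρmul : ∀ a b : A, ρ (a * b) = ρ a * ρ b := fun a b => MulEquiv.ext fun t => Subtype.ext (by
    rw [hρ, MulAut.mul_apply, hρ]
    show (((a : MulAut R) ((b : MulAut R) ⟨t, t.2.1⟩) : R) : Ω) = _
    exact congrArg (fun w => (((a : MulAut R) w : R) : Ω)) (Subtype.ext (hρ b t).symm))
  let ρh : A →* MulAut T := MonoidHom.mk' ρ hρmul
  -- the normal subgroup of maps trivial on `R/T`
  let X : Subgroup A :=
    { carrier := {γ | ∀ x : R, (x : Ω)⁻¹ * ((γ : MulAut R) x : R) ∈ P}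
      one_mem' := fun x => by simp
      mul_mem' := fun {a c} ha hc x => by
        have := P.mul_mem (hc x) (ha ((c : MulAut R) x))
        simpa [mul_assoc] using this
      inv_mem' := fun {a} ha x => by
        have := P.inv_mem (ha ((a : MulAut R)⁻¹ x))
        simpa using this }
  haveI hXn : X.Normal := ⟨fun a ha g x => by
    have h1 := hAP _ g.2 _ (show ((((g : MulAut R)⁻¹ x)⁻¹ * (a : MulAut R) ((g : MulAut R)⁻¹ x) : R) : Ω) ∈ P from ha _)
    simpa [mul_assoc] using h1⟩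
  have hXT : ∀ γ ∈ X, ρ γ = 1 → Odd (orderOf γ) → γ = 1 := by
    intro γ hγ hρ1 hodd
    refine Subtype.ext (MulEquiv.ext fun x => ?_)
    set t : R := x⁻¹ * (γ : MulAut R) x with ht
    have htT : (t : Ω) ∈ T := ⟨t.2, hγ x⟩
    have hfix : (γ : MulAut R) t = t := by
      have := hρ γ ⟨t, htT⟩
      rw [hρ1] at this
      exact Subtype.ext this.symm
    have hpow : ∀ k : ℕ, ((γ : MulAut R) ^ k) x = x * t ^ k := by
      intro k
      induction k with
      | zero => simp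
      | succ k ih =>
        rw [pow_succ', MulAut.mul_apply, ih, map_mul, map_pow, hfix, show (γ : MulAut R) x = x * t by simp [ht],
          mul_assoc, ← pow_succ']
    have h1 := hpow (orderOf γ)
    rw [← Subgroup.coe_pow, pow_orderOf_eq_one, Subgroup.coe_one, MulAut.one_apply, left_eq_mul] at h1
    obtain ⟨n, hn⟩ := IsPGroup.iff_orderOf.1 (hS.to_le hRS) t
    have h2 : t = 1 := by
      have h3 : orderOf t ∣ orderOf γ := orderOf_dvd_of_pow_eq_one h1
      rcases n with _ | n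
      · exact orderOf_eq_one_iff.1 (by rw [hn, pow_zero])
      · exfalso
        rw [hn] at h3
        exact Nat.not_even_iff_odd.2 hodd (even_iff_two_dvd.2 ((dvd_pow_self 2 n.succ_ne_zero).trans h3))
    rw [ht, inv_mul_eq_one] at h2
    exact h2.symm
  -- a normal subgroup inside `X` without odd elements consists of inner maps
  have hkill : ∀ Y : Subgroup A, Y.Normal → (∀ γ ∈ Y, Odd (orderOf γ) → γ = 1) → ∀ g ∈ S,
      ∀ hgN : g ∈ Subgroup.normalizer (R : Set Ω), ∀ hgS : g ∈ S,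
      (⟨conjAut R S ⟨g, hgS, hgN⟩, autInducedBy_le_autGroup hRS (range_conjAut (P := R) S ▸ ⟨_, rfl⟩)⟩ : A) ∈ Y →
      g ∈ R := by
    intro Y hY hodd g _ hgN hgS hgY
    have hYp : IsPGroup 2 Y := fun γ => by
      obtain ⟨k, m, hm, hkm⟩ := Nat.exists_eq_pow_mul_and_not_dvd (orderOf_pos (γ : A)).ne' 2 (by norm_num)
      refine ⟨k, Subtype.ext ?_⟩
      rw [Subgroup.coe_pow, Subgroup.coe_one]
      refine hodd _ (Y.pow_mem γ.2 _) ?_
      rw [orderOf_pow' _ (by positivity), hkm, Nat.gcd_mul_right_left, Nat.mul_div_cancel_left _ (by positivity)]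
      exact Nat.odd_iff.2 (by omega)
    have hle' : Y ≤ Cfsg.pCore 2 A := le_sSup ⟨hY, hYp⟩
    exact mem_self_of_inn hRc hgS (fun x => rfl) (hRr.2.le ⟨_, hle' hgY, rfl⟩)
  have hconjX : ∀ g (hgS : g ∈ S) (hgN : g ∈ Subgroup.normalizer (R : Set Ω)), g ∈ P →
      (⟨conjAut R S ⟨g, hgS, hgN⟩, autInducedBy_le_autGroup hRS (range_conjAut (P := R) S ▸ ⟨_, rfl⟩)⟩ : A) ∈ X := by
    intro g hgS hgN hgP x
    show (x : Ω)⁻¹ * (g * x * g⁻¹) ∈ P
    have h1 := conj_mem_of_normalizer (hPn (S.inv_mem (hRS x.2))) hgP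
    have := P.mul_mem h1 (P.inv_mem hgP)
    simpa [mul_assoc] using this
  -- the centraliser of `T` in `P`
  have hCT : ∀ g ∈ P, g ∈ Subgroup.centralizer (T : Set Ω) → g ∈ T := by
    by_contra hcon
    push Not at hcon
    obtain ⟨g₀, hg₀P, hg₀C, hg₀T⟩ := hcon
    set C := P ⊓ Subgroup.centralizer (T : Set Ω)
    have hRC : R ≤ Subgroup.normalizer (C : Set Ω) := by
      rw [Subgroup.le_normalizer_iff]
      intro r hr c hc
      refine ⟨conj_mem_of_normalizer (hPn (hRS hr)) hc.1, Subgroup.mem_centralizer_iff.2 fun t ht => ?_⟩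
      have ht' : r⁻¹ * t * r⁻¹⁻¹ ∈ T :=
        ⟨R.mul_mem (R.mul_mem (R.inv_mem hr) ht.1) (R.inv_mem (R.inv_mem hr)),
          conj_mem_of_normalizer (hPn (S.inv_mem (hRS hr))) ht.2⟩
      have h1 := Subgroup.mem_centralizer_iff.1 hc.2 _ ht'
      calc t * (r * c * r⁻¹) = r * (r⁻¹ * t * r⁻¹⁻¹ * c) * r⁻¹ := by group
        _ = r * (c * (r⁻¹ * t * r⁻¹⁻¹)) * r⁻¹ := by rw [h1]
        _ = _ := by group
    have hlt : R < R ⊔ C := lt_of_le_of_ne le_sup_left fun e => hg₀T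
      ⟨e ▸ (le_sup_right : C ≤ R ⊔ C) ⟨hg₀P, hg₀C⟩, hg₀P⟩
    have hUS : R ⊔ C ≤ S := sup_le hRS (inf_le_left.trans hPS)
    haveI := finite_of_le hUS
    obtain ⟨g, hgU, hgN, hgR⟩ := exists_normalizer_not_mem (Q := R) (P := R ⊔ C) (hS.to_le hUS) hlt
    have hg' : g ∈ ((R : Set Ω) * (C : Set Ω)) := by
      rw [← Subgroup.coe_mul_of_left_le_normalizer_right _ _ hRC]; exact hgU
    obtain ⟨r, hr, c, hc, rfl⟩ := hg'
    have hcN : c ∈ Subgroup.normalizer (R : Set Ω) := by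
      have := mul_mem (inv_mem (Subgroup.le_normalizer hr)) hgN
      rwa [inv_mul_cancel_left] at this
    refine hgR (R.mul_mem hr (hkill (X ⊓ ρh.ker) inferInstance (fun γ hγ ho => hXT γ hγ.1 hγ.2 ho) c (hPS hc.1) hcN
      (hPS hc.1) ⟨hconjX c (hPS hc.1) hcN hc.1, MulEquiv.ext fun t => Subtype.ext ?_⟩))
    rw [show ρh _ = ρ _ from rfl, hρ]
    show c * (t : Ω) * c⁻¹ = t
    rw [← Subgroup.mem_centralizer_iff.1 hc.2 t t.2, mul_inv_cancel_right]
  -- the group `N_P(R)`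
  obtain ⟨h, hhP, hhN, hhR⟩ : ∃ h ∈ P, h ∈ Subgroup.normalizer (R : Set Ω) ∧ h ∉ R := by
    have hlt : R < R ⊔ P := lt_of_le_of_ne le_sup_left fun e => hle (e ▸ le_sup_right)
    have hUS : R ⊔ P ≤ S := sup_le hRS hPS
    haveI := finite_of_le hUS
    obtain ⟨g, hgU, hgN, hgR⟩ := exists_normalizer_not_mem (Q := R) (P := R ⊔ P) (hS.to_le hUS) hlt
    have hg' : g ∈ ((R : Set Ω) * (P : Set Ω)) := by
      rw [← Subgroup.coe_mul_of_left_le_normalizer_right _ _ (hRS.trans hPn)]; exact hgU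
    obtain ⟨r, hr, c, hc, rfl⟩ := hg'
    refine ⟨c, hc, ?_, fun hcR => hgR (R.mul_mem hr hcR)⟩
    have := mul_mem (inv_mem (Subgroup.le_normalizer hr)) hgN
    rwa [inv_mul_cancel_left] at this
  -- choose `g` of order two modulo `T`
  obtain ⟨g, hgP, hgN, hgT, hg2⟩ : ∃ g ∈ P, g ∈ Subgroup.normalizer (R : Set Ω) ∧ g ∉ T ∧ g ^ 2 ∈ T := by
    obtain ⟨n, hn⟩ := hS ⟨h, hPS hhP⟩
    have hn' : h ^ 2 ^ n = 1 := congrArg Subtype.val hn
    have hex : ∃ k, h ^ 2 ^ k ∈ T := ⟨n, hn' ▸ T.one_mem⟩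
    have hk0 : Nat.find hex ≠ 0 := fun e => hhR (by
      have := (Nat.find_spec hex).1
      rwa [e, pow_zero, pow_one] at this)
    refine ⟨h ^ 2 ^ (Nat.find hex - 1), P.pow_mem hhP _, pow_mem hhN _, Nat.find_min hex (by omega), ?_⟩
    rw [← pow_mul, ← pow_succ, Nat.sub_add_cancel (by omega : 1 ≤ Nat.find hex)]
    exact Nat.find_spec hex
  have hTg : ∀ t ∈ T, g * t * g⁻¹ ∈ T := fun t ht =>
    ⟨conj_mem_of_normalizer hgN ht.1, conj_mem_of_normalizer (hPn (hPS hgP)) ht.2⟩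
  -- the subgroup of `X` acting trivially on `T / Φ(T)`
  let Y : Subgroup A := X ⊓ (Subgroup.comap ρh
    { carrier := {δ : MulAut T | ∀ t, δ t * t⁻¹ ∈ frattini T}
      one_mem' := fun t => by simp
      mul_mem' := fun {a b} ha hb t => by
        have := (frattini T).mul_mem (ha (b t)) (hb t)
        simpa [mul_assoc] using this
      inv_mem' := fun {a} ha t => by
        have := (frattini T).inv_mem (ha (a⁻¹ t))
        simpa [mul_assoc] using this })
  haveI hYn : Y.Normal := ⟨fun a ha b => ⟨hXn.conj_mem a ha.1 b, fun t => by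
    rw [map_mul, map_mul, map_inv]
    have h1 := (Subgroup.characteristic_iff_le_comap.1 (frattini_characteristic (G := T)) (ρh b))
      (ha.2 ((ρh b)⁻¹ t))
    simpa [mul_assoc] using h1⟩⟩
  have hρodd : ∀ γ : A, Odd (orderOf γ) → Odd (orderOf (ρ γ)) := fun γ h =>
    Odd.of_dvd_nat h (orderOf_map_dvd ρh γ)
  have hYodd : ∀ γ ∈ Y, Odd (orderOf γ) → γ = 1 := fun γ hγ ho =>
    hXT γ hγ.1 (eq_one_of_trivial_frattini hTp (hρodd γ ho) hγ.2) ho
  set γg : A := ⟨conjAut R S ⟨g, hPS hgP, hgN⟩, autInducedBy_le_autGroup hRS (range_conjAut (P := R) S ▸ ⟨_, rfl⟩)⟩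
    with hγg
  have hgR : g ∉ R := fun e => hgT ⟨e, hgP⟩
  have hgY : γg ∉ Y := fun e => hgR (hkill Y hYn hYodd g (hPS hgP) hgN (hPS hgP) e)
  obtain ⟨σ, hσ, hσ1⟩ : ∃ σ : MulAut T, Odd (orderOf σ) ∧ σ ≠ 1 := by
    by_contra hcon
    push Not at hcon
    exact hgR (hkill X hXn (fun γ hγ ho => hXT γ hγ (hcon _ (hρodd γ ho)) ho) g (hPS hgP) hgN (hPS hgP)
      (hconjX g (hPS hgP) hgN hgP))
  obtain ⟨t₀, ht₀⟩ : ∃ t : T, ρ γg t * t⁻¹ ∉ frattini T := by
    by_contra hcon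
    push Not at hcon
    exact hgY ⟨hconjX g (hPS hgP) hgN hgP, hcon⟩
  -- the group `K = T⟨g⟩`
  set K : Subgroup Ω := T ⊔ Subgroup.zpowers g with hKdef
  have hKP : K ≤ P := sup_le inf_le_right (Subgroup.zpowers_le.2 hgP)
  haveI := finite_of_le (hKP.trans hPS)
  have hKT : ∀ w ∈ K, w ∈ T ∨ g⁻¹ * w ∈ T := by
    intro w hw
    have hn : Subgroup.zpowers g ≤ Subgroup.normalizer (T : Set Ω) := Subgroup.zpowers_le.2 (by
      refine Subgroup.mem_normalizer_iff.2 fun t => ⟨hTg t, fun h => ?_⟩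
      have h2 := hTg _ h
      have h3 := T.mul_mem (T.mul_mem (T.inv_mem hg2) h2) hg2
      simpa [pow_two, mul_assoc] using h3)
    have hw' : w ∈ ((Subgroup.zpowers g : Set Ω) * (T : Set Ω)) := by
      rw [← Subgroup.coe_mul_of_left_le_normalizer_right _ _ hn, sup_comm]; exact hw
    obtain ⟨_, ⟨i, rfl⟩, t, ht, rfl⟩ := hw'
    rcases Int.even_or_odd i with ⟨j, rfl⟩ | ⟨j, rfl⟩
    · left
      have : g ^ (j + j) = (g ^ 2) ^ j := by rw [← two_mul, zpow_mul, zpow_ofNat]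
      show g ^ (j + j) * t ∈ T
      rw [this]; exact T.mul_mem (T.zpow_mem hg2 j) ht
    · right
      have : g⁻¹ * (g ^ (2 * j + 1) * t) = (g ^ 2) ^ j * t := by
        rw [show (g ^ 2) ^ j = g ^ (2 * j) by rw [zpow_mul, zpow_ofNat]]; group
      show g⁻¹ * (g ^ (2 * j + 1) * t) ∈ T
      rw [this]; exact T.mul_mem (T.zpow_mem hg2 j) ht
  set gK : K := ⟨g, Subgroup.mem_sup_right (Subgroup.mem_zpowers g)⟩
  haveI hTKn : (T.subgroupOf K).Normal := ⟨fun t ht w => by
    rw [Subgroup.mem_subgroupOf] at ht ⊢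
    show (w : Ω) * t * (w : Ω)⁻¹ ∈ T
    rcases hKT w w.2 with h | h
    · exact T.mul_mem (T.mul_mem h ht) (T.inv_mem h)
    · have := hTg _ (T.mul_mem (T.mul_mem h ht) (T.inv_mem h))
      simpa [mul_assoc] using this⟩
  have hidx : (T.subgroupOf K).index = 2 := by
    refine Subgroup.index_eq_two_iff.2 ⟨gK⁻¹, fun w => ?_⟩
    simp only [Subgroup.mem_subgroupOf, Subgroup.coe_mul, Subgroup.coe_inv, gK]
    rcases hKT w w.2 with h | h
    · refine Or.inr ⟨h, fun hc => hgT ?_⟩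
      have h5 := T.mul_mem (T.inv_mem h) hc
      have hn2 : (w : Ω)⁻¹ * ((w : Ω) * g⁻¹) = g⁻¹ := inv_mul_cancel_left _ _
      rw [hn2] at h5
      simpa using T.inv_mem h5
    · refine Or.inl ⟨?_, fun hc => hgT ?_⟩
      · have h5 := hTg _ h
        simpa [mul_assoc] using h5
      · have h5 := T.mul_mem hc (T.inv_mem h)
        simpa [mul_assoc] using h5
  have hKm : ∃ (N : Subgroup K) (_ : N.Normal), IsCyclic N ∧ IsCyclic (K ⧸ N) := by
    obtain ⟨N, hN, h1, h2⟩ := isMetacyclic_subgroup (K.subgroupOf P) hm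
    haveI := hN
    let e := Subgroup.subgroupOfEquivOfLe hKP
    haveI : (N.map e.toMonoidHom).Normal := hN.map _ e.surjective
    refine ⟨N.map e.toMonoidHom, inferInstance, ?_, ?_⟩
    · haveI := h1
      exact isCyclic_of_surjective _ (MonoidHom.subgroupMap_surjective e.toMonoidHom N)
    · haveI := h2
      exact isCyclic_of_surjective _ (QuotientGroup.map_surjective_of_surjective N (N.map e.toMonoidHom) e.toMonoidHom
        (QuotientGroup.mk_surjective.comp e.surjective) (Subgroup.le_comap_map _ N))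
  obtain ⟨N, hNn, hNc, hNq⟩ := hKm
  haveI := hNn
  have hTK : T ≤ K := le_sup_left
  let eT := Subgroup.subgroupOfEquivOfLe hTK
  have hΦeT : ∀ w, w ∈ frattini (T.subgroupOf K) → eT w ∈ frattini T := fun w hw =>
    (Cfsg.Agent.S4218.map_frattini eT).le ⟨w, hw, rfl⟩
  have hcases := card_cases (hS.to_le (hKP.trans hPS)) hNc hNq hidx (g := gK) (fun h => hgT h)
    ⟨eT.symm t₀, fun h => ht₀ (by
      have h1 := hΦeT _ h
      rw [map_mul, map_inv, MulEquiv.apply_symm_apply] at h1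
      convert h1 using 2
      exact Subtype.ext (hρ γg t₀))⟩
    (σ := MulAut.congr eT.symm σ) (by rwa [MulEquiv.orderOf_eq]) (fun h => hσ1 ((MulAut.congr eT.symm).injective (h.trans (map_one _).symm)))
  have hTP : T ≤ P := inf_le_right
  let e' := Subgroup.subgroupOfEquivOfLe hTP
  have hcard : Nat.card (T.subgroupOf P) = Nat.card (T.subgroupOf K) :=
    Nat.card_congr (e'.trans eT.symm).toEquiv
  have hC : Subgroup.centralizer ((T.subgroupOf P : Subgroup P) : Set P) ≤ T.subgroupOf P := fun w hw =>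
    Subgroup.mem_subgroupOf.2 (hCT w w.2 (Subgroup.mem_centralizer_iff.2 fun t ht =>
      congrArg Subtype.val (Subgroup.mem_centralizer_iff.1 hw ⟨t, hTP ht⟩ (Subgroup.mem_subgroupOf.2 ht))))
  have hne : T.subgroupOf P ≠ ⊤ := fun e => hgT (Subgroup.mem_subgroupOf.1 (e ▸ Subgroup.mem_top (⟨g, hgP⟩ : P)))
  have hA' : Nat.card (T.subgroupOf P) = 4 ∨ (Nat.card (T.subgroupOf P) = 8 ∧ ¬ IsMulCommutative (T.subgroupOf P)) := by
    rcases hcases with h | ⟨h, hna⟩
    · exact Or.inl (hcard.trans h)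
    · refine Or.inr ⟨hcard.trans h, fun hab => hna ⟨⟨fun a b => ?_⟩⟩⟩
      apply (eT.trans e'.symm).injective
      rw [map_mul, map_mul]
      exact hab.is_comm.comm _ _
  rcases types_of_self_centralizing (hS.to_le hPS) hC hA' hne with h | h | h
  · exact hd h
  · exact hq h
  · exact hsd h

end CfsgLib.MetaTwo
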