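import Mathlib
import Cfsg.Agent.PGroup.Basic
import Cfsg.Agent.S4207

/-!
A metacyclic `2`-group `K` with a subgroup `T` of index `2` admitting an odd automorphism which is moved by `K`
modulo `Φ(T)`: then `T` is a four group or nonabelian of order `8`.
-/

set_option autoImplicit false
set_option linter.style.haveILetI false

open scoped commutatorElement

namespace CfsgLib.MetaTwo

/-- Odd automorphisms trivial on the Frattini quotient of a `2`-group are trivial. -/
theorem eq_one_of_trivial_frattini {T : Type*} [Group T] [Finite T] (hT : IsPGroup 2 T) {δ : MulAut T}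
    (hodd : Odd (orderOf δ)) (h : ∀ t, δ t * t⁻¹ ∈ frattini T) : δ = 1 := by
  haveI : Fact (Nat.Prime 2) := ⟨Nat.prime_two⟩
  obtain ⟨n, hn⟩ := IsPGroup.iff_card.1 hT
  obtain ⟨r, -, hr⟩ := (Nat.dvd_prime_pow Nat.prime_two).1 (hn ▸ (frattini T).index_dvd_card)
  let A : Subgroup (MulAut T) :=
    { carrier := {γ | ∀ t, γ t * t⁻¹ ∈ frattini T}
      one_mem' := fun t => by simp
      mul_mem' := fun {a b} ha hb t => by
        have := (frattini T).mul_mem (ha (b t)) (hb t)
        simpa [mul_assoc] using this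
      inv_mem' := fun {a} ha t => by
        have := (frattini T).inv_mem (ha (a⁻¹ t))
        simpa [mul_assoc] using this }
  have h1 : Nat.card A ∣ 2 ^ (r * (n - r)) := Cfsg.Agent.S4207.result hn hr A fun α hα => hα
  have h2 : orderOf δ ∣ 2 ^ (r * (n - r)) := (Subgroup.orderOf_dvd_natCard A h).trans h1
  obtain ⟨k, -, hk⟩ := (Nat.dvd_prime_pow Nat.prime_two).1 h2
  rcases k with _ | k
  · exact orderOf_eq_one_iff.1 (by rw [hk, pow_zero])
  · exact absurd hodd (by rw [hk, Nat.not_odd_iff_even]; exact (Nat.even_pow.2 ⟨even_two, k.succ_ne_zero⟩))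

variable {K : Type*} [Group K] [Finite K]

theorem card_cases (hK : IsPGroup 2 K) {N : Subgroup K} [N.Normal] (hN : IsCyclic N) (hQ : IsCyclic (K ⧸ N))
    {T : Subgroup K} [T.Normal] (hTi : T.index = 2) {g : K} (hg : g ∉ T)
    (hmove : ∃ t : T, (⟨g * t * g⁻¹, (inferInstance : T.Normal).conj_mem t t.2 g⟩ : T) * t⁻¹ ∉ frattini T)
    {σ : MulAut T} (hσ : Odd (orderOf σ)) (hσ1 : σ ≠ 1) :
    Nat.card T = 4 ∨ (Nat.card T = 8 ∧ ¬ IsMulCommutative T) := by
  classical
  haveI : Fact (Nat.Prime 2) := ⟨Nat.prime_two⟩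
  have hTp : IsPGroup 2 T := hK.to_subgroup T
  set Φ := frattini T with hΦ
  have hsqΦ : ∀ (t : T) (i : ℤ), t ^ (2 * i) ∈ Φ := fun t i => by
    rw [zpow_mul, zpow_ofNat]; exact Φ.zpow_mem (CfsgLib.PGroup.pow_mem_frattini hTp t) i
  have hcΦ : ∀ a b : T, a * b * a⁻¹ * b⁻¹ ∈ Φ := fun a b => CfsgLib.PGroup.commutator_le_frattini hTp (by
    rw [commutator_def]; exact Subgroup.commutator_mem_commutator (Subgroup.mem_top a) (Subgroup.mem_top b))
  have hΦn : ∀ f ∈ Φ, ∀ a : T, a * f * a⁻¹ ∈ Φ := fun f hf a =>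
    (inferInstance : (frattini T).Normal).conj_mem f hf a
  let act : K → T → T := fun k t => ⟨k * t * k⁻¹, (inferInstance : T.Normal).conj_mem t t.2 k⟩
  have hact_mul : ∀ (k : K) (a b : T), act k (a * b) = act k a * act k b := fun k a b =>
    Subtype.ext (by show k * ((a : K) * b) * k⁻¹ = _; simp [act, mul_assoc])
  -- elements outside `T` give the same action modulo `Φ`
  have hout : ∀ k : K, k ∉ T → ∃ t : T, act k t * t⁻¹ ∉ Φ := by
    intro k hk
    obtain ⟨t, ht⟩ := hmove
    refine ⟨t, fun h => ht ?_⟩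
    have hgk : g * k⁻¹ ∈ T := by
      rw [Subgroup.mul_mem_iff_of_index_two hTi]; simp [hg, hk]
    set a : T := ⟨g * k⁻¹, hgk⟩
    have e : (⟨g * t * g⁻¹, (inferInstance : T.Normal).conj_mem t t.2 g⟩ : T) * t⁻¹ =
        (a * (act k t * t⁻¹) * a⁻¹) * (a * t * a⁻¹ * t⁻¹) :=
      Subtype.ext (by simp [act, a, mul_assoc])
    rw [e]
    exact Φ.mul_mem (hΦn _ h a) (hcΦ a t)
  -- subgroup of elements fixed modulo `Φ`
  let fixed : K → Subgroup T := fun k =>
    { carrier := {t | act k t * t⁻¹ ∈ Φ}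
      one_mem' := by
        have : act k 1 = 1 := Subtype.ext (by simp [act])
        show act k 1 * 1⁻¹ ∈ Φ
        rw [this]; simp
      mul_mem' := fun {a b} ha hb => by
        show act k (a * b) * (a * b)⁻¹ ∈ Φ
        have e : act k (a * b) * (a * b)⁻¹ = (act k a * a⁻¹) * (a * (act k b * b⁻¹) * a⁻¹) := by
          rw [hact_mul]; group
        rw [e]
        exact Φ.mul_mem ha (hΦn _ hb a)
      inv_mem' := fun {a} ha => by
        show act k a⁻¹ * a⁻¹⁻¹ ∈ Φ
        have e : act k a⁻¹ * a⁻¹⁻¹ = a⁻¹ * (a * ((act k a)⁻¹)) * a⁻¹⁻¹ := by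
          have : act k a⁻¹ = (act k a)⁻¹ := Subtype.ext (by simp [act, mul_assoc])
          rw [this]; group
        rw [e]
        refine hΦn _ ?_ a⁻¹
        have := Φ.inv_mem ha
        simpa using this }
  obtain ⟨y, hy⟩ := hN.exists_generator
  obtain ⟨κ, hκ⟩ := hQ.exists_generator
  obtain ⟨k, rfl⟩ := QuotientGroup.mk'_surjective N κ
  -- every element is `k ^ i * n`
  have hdec : ∀ x : K, ∃ (i j : ℤ), x = k ^ i * (y : K) ^ j := by
    intro x
    obtain ⟨i, hi⟩ := Subgroup.mem_zpowers_iff.1 (hκ (QuotientGroup.mk' N x))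
    rw [← map_zpow] at hi
    have hn : (k ^ i)⁻¹ * x ∈ N := QuotientGroup.eq.1 hi
    obtain ⟨j, hj⟩ := Subgroup.mem_zpowers_iff.1 (hy ⟨_, hn⟩)
    refine ⟨i, j, ?_⟩
    have := congrArg Subtype.val hj
    rw [SubgroupClass.coe_zpow] at this
    rw [this, mul_inv_cancel_left]
  by_cases hNT : N ≤ T
  · exfalso
    have hkT : k ∉ T := by
      intro hk
      obtain ⟨i, j, hgij⟩ := hdec g
      exact hg (hgij ▸ T.mul_mem (T.zpow_mem hk i) (T.zpow_mem (hNT y.2) j))
    set u : T := ⟨y, hNT y.2⟩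
    have hu : u ∈ fixed k := by
      obtain ⟨i, hi⟩ := Subgroup.mem_zpowers_iff.1 (hy ⟨k * y * k⁻¹, (inferInstance : N.Normal).conj_mem y y.2 k⟩)
      have hact : act k u = u ^ i := Subtype.ext (by
        have := congrArg Subtype.val hi
        rw [SubgroupClass.coe_zpow] at this
        rw [SubgroupClass.coe_zpow]
        exact this.symm)
      show act k u * u⁻¹ ∈ Φ
      rcases Int.even_or_odd i with ⟨e, rfl⟩ | ⟨e, rfl⟩
      · -- an even power cannot have the order of `u`
        have hinj : orderOf (act k u) = orderOf u := by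
          rw [← Subgroup.orderOf_coe, ← Subgroup.orderOf_coe]
          exact MulEquiv.orderOf_eq (MulAut.conj k) (u : K)
        obtain ⟨n, hn⟩ := IsPGroup.iff_orderOf.1 hTp u
        rcases n with _ | n
        · rw [pow_zero, orderOf_eq_one_iff] at hn
          have : act k u = 1 := by rw [hact, hn, one_zpow]
          rw [this, hn]; simp
        exfalso
        have h1 : (u ^ (e + e)) ^ (2 ^ n) = 1 := by
          rw [← zpow_natCast, ← zpow_mul, ← orderOf_dvd_iff_zpow_eq_one, hn]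
          exact ⟨e, by push_cast; ring⟩
        rw [← hact, ← orderOf_dvd_iff_pow_eq_one, hinj, hn, Nat.pow_dvd_pow_iff_le_right (by norm_num)] at h1
        omega
      · rw [hact, zpow_add, zpow_one, mul_inv_cancel_right]
        exact hsqΦ u e
    obtain ⟨t, ht⟩ := hout k hkT
    refine ht ?_
    show t ∈ fixed k
    obtain ⟨i, j, htij⟩ := hdec t
    have hki : k ^ i ∈ T := by
      have := T.mul_mem t.2 (T.inv_mem (T.zpow_mem (hNT y.2) j))
      rwa [htij, mul_inv_cancel_right] at this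
    obtain ⟨e, rfl⟩ : Even i := by
      by_contra hodd
      obtain ⟨e, rfl⟩ := Int.not_even_iff_odd.1 hodd
      refine hkT ?_
      have h2 : k ^ (2 * e) ∈ T := by
        rw [zpow_mul]; exact T.zpow_mem (Subgroup.sq_mem_of_index_two hTi k |> fun h => by rwa [zpow_ofNat]) e
      have := T.mul_mem (T.inv_mem h2) hki
      rwa [zpow_add, zpow_one, inv_mul_cancel_left] at this
    have hk2 : (⟨k ^ 2, Subgroup.sq_mem_of_index_two hTi k⟩ : T) ∈ fixed k := by
      show act k _ * _⁻¹ ∈ Φ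
      have : act k ⟨k ^ 2, Subgroup.sq_mem_of_index_two hTi k⟩ = ⟨k ^ 2, Subgroup.sq_mem_of_index_two hTi k⟩ :=
        Subtype.ext (by show k * k ^ 2 * k⁻¹ = k ^ 2; group)
      rw [this]; simp
    have e1 : t = (⟨k ^ 2, Subgroup.sq_mem_of_index_two hTi k⟩ : T) ^ e * u ^ j := Subtype.ext (by
      rw [Subgroup.coe_mul, SubgroupClass.coe_zpow, SubgroupClass.coe_zpow, htij]
      show k ^ (e + e) * (y : K) ^ j = (k ^ 2) ^ e * (y : K) ^ j
      rw [← two_mul, zpow_mul, zpow_ofNat])
    rw [e1]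
    exact mul_mem (zpow_mem hk2 e) (zpow_mem hu j)
  -- `y ∉ T`
  have hyT : (y : K) ∉ T := fun h => hNT fun n hn => by
    obtain ⟨j, hj⟩ := Subgroup.mem_zpowers_iff.1 (hy ⟨n, hn⟩)
    have := congrArg Subtype.val hj
    rw [SubgroupClass.coe_zpow] at this
    exact (show (y : K) ^ j = n from this) ▸ T.zpow_mem h j
  set u : T := ⟨(y : K) ^ 2, Subgroup.sq_mem_of_index_two hTi (y : K)⟩ with hudef
  have huf : act y u = u := Subtype.ext (by show (y : K) * (y : K) ^ 2 * (y : K)⁻¹ = (y : K) ^ 2; group)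
  have hNTu : ∀ t : T, (t : K) ∈ N → t ∈ Subgroup.zpowers u := by
    intro t ht
    obtain ⟨j, hj⟩ := Subgroup.mem_zpowers_iff.1 (hy ⟨t, ht⟩)
    have hj' : (y : K) ^ j = t := by
      have := congrArg Subtype.val hj
      rwa [SubgroupClass.coe_zpow] at this
    rcases Int.even_or_odd j with ⟨e, rfl⟩ | ⟨e, rfl⟩
    · refine Subgroup.mem_zpowers_iff.2 ⟨e, Subtype.ext ?_⟩
      rw [SubgroupClass.coe_zpow, ← hj']
      show ((y : K) ^ 2) ^ e = (y : K) ^ (e + e)
      rw [← two_mul, zpow_mul, zpow_ofNat]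
    · exfalso
      refine hyT ?_
      have h2 : (y : K) ^ (2 * e) ∈ T := by
        rw [zpow_mul, zpow_ofNat]; exact T.zpow_mem (Subgroup.sq_mem_of_index_two hTi _) e
      have := T.mul_mem (T.inv_mem h2) t.2
      rwa [← hj', zpow_add, zpow_one, inv_mul_cancel_left] at this
  have hucN : (u : K) ∈ N := N.pow_mem y.2 2
  have hbr : ∀ t : T, ∃ j : ℤ, act y t = u ^ j * t := by
    intro t
    obtain ⟨j, hj⟩ := Subgroup.mem_zpowers_iff.1 (hNTu (act y t * t⁻¹) (by
      show (y : K) * t * (y : K)⁻¹ * (t : K)⁻¹ ∈ N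
      have := N.mul_mem y.2 ((inferInstance : N.Normal).conj_mem _ (N.inv_mem y.2) t)
      simpa [mul_assoc] using this))
    exact ⟨j, by rw [hj, inv_mul_cancel_right]⟩
  choose f hf using hbr
  -- generation by `u` and one more element
  obtain ⟨e, he⟩ : ∃ e : T, ∀ t : T, ∃ a b : ℤ, t = e ^ a * u ^ b := by
    haveI := hQ
    haveI : IsCyclic ↥(T.map (QuotientGroup.mk' N)) := inferInstance
    obtain ⟨⟨w, e, he, rfl⟩, hw⟩ := IsCyclic.exists_generator (α := ↥(T.map (QuotientGroup.mk' N)))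
    refine ⟨⟨e, he⟩, fun t => ?_⟩
    obtain ⟨a, ha⟩ := Subgroup.mem_zpowers_iff.1 (hw ⟨QuotientGroup.mk' N t, t, t.2, rfl⟩)
    have ha' : QuotientGroup.mk' N (e ^ a) = QuotientGroup.mk' N t := by
      rw [map_zpow]
      have := congrArg Subtype.val ha
      rwa [SubgroupClass.coe_zpow] at this
    have hn : (((⟨e, he⟩ : T) ^ a)⁻¹ * t : T).1 ∈ N := by
      rw [Subgroup.coe_mul, Subgroup.coe_inv, SubgroupClass.coe_zpow]
      exact QuotientGroup.eq.1 ha'
    obtain ⟨b, hb⟩ := Subgroup.mem_zpowers_iff.1 (hNTu _ hn)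
    exact ⟨a, b, by rw [hb, mul_inv_cancel_left]⟩
  have hufix : u ∈ fixed y := by
    show act y u * u⁻¹ ∈ Φ
    rw [huf]; simp
  have hefix : e ∉ fixed y := by
    intro h
    obtain ⟨t, ht⟩ := hout y hyT
    obtain ⟨a, b, rfl⟩ := he t
    exact ht (show e ^ a * u ^ b ∈ fixed y from mul_mem (zpow_mem h a) (zpow_mem hufix b))
  have huΦ : u ∉ Φ := fun h => hefix (by
    show act y e * e⁻¹ ∈ Φ
    rw [hf e, mul_inv_cancel_right]; exact Φ.zpow_mem h _)
  have hσΦ : ∀ (γ : MulAut T) (t : T), t ∈ Φ → γ t ∈ Φ := fun γ t ht =>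
    (Subgroup.characteristic_iff_le_comap.1 (frattini_characteristic) γ) ht
  have hΦfix : ∀ f ∈ Φ, f ∈ fixed y := fun t ht => by
    show act y t * t⁻¹ ∈ Φ
    have hc : ((MulAut.conjNormal (H := T) (y : K)) t : T) = act y t := Subtype.ext (by simp [act])
    rw [← hc]
    exact Φ.mul_mem (hσΦ _ _ ht) (Φ.inv_mem ht)
  -- classes modulo `Φ`
  haveI : Φ.Normal := inferInstance
  set π := QuotientGroup.mk' Φ
  have hπ1 : ∀ t : T, π t = 1 ↔ t ∈ Φ := fun t => QuotientGroup.eq_one_iff t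
  have hπ2 : ∀ t : T, π t * π t = 1 := fun t => by
    rw [← map_mul, hπ1, ← pow_two]; exact CfsgLib.PGroup.pow_mem_frattini hTp t
  have hπz : ∀ (t : T) (i : ℤ), π (t ^ i) = 1 ∨ π (t ^ i) = π t := fun t i => by
    rcases Int.even_or_odd i with ⟨a, rfl⟩ | ⟨a, rfl⟩
    · left; rw [hπ1, ← two_mul]; exact hsqΦ t a
    · right; rw [zpow_add, zpow_one, map_mul, (hπ1 _).2 (hsqΦ t a), one_mul]
  have hclass : ∀ t : T, π t = 1 ∨ π t = π u ∨ π t = π e ∨ π t = π e * π u := fun t => by
    obtain ⟨a, b, rfl⟩ := he t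
    rw [map_mul]
    rcases hπz e a with h | h <;> rcases hπz u b with h' | h' <;> simp [h, h']
  -- `σ` moves the class of `u`
  set v := σ u with hvdef
  have hvu : π v ≠ π u := by
    intro hv
    have hd : ∀ t, π (σ t) = π t ∨ π (σ t) = π t * π u := by
      intro t
      obtain ⟨a, b, rfl⟩ := he t
      have hbu : π (σ (u ^ b)) = π (u ^ b) := by rw [map_zpow, map_zpow, map_zpow, ← hvdef, hv]
      have hcase : π (σ e) = π e ∨ π (σ e) = π e * π u := by
        rcases hclass (σ e) with h | h | h | h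
        · exfalso
          have h1 := hσΦ σ⁻¹ _ ((hπ1 _).1 h)
          rw [MulAut.inv_apply_self] at h1
          exact hefix (hΦfix e h1)
        · exfalso
          have h1 : π (σ (e * u⁻¹)) = 1 := by
            rw [map_mul, map_mul, map_inv, map_inv, ← hvdef, hv, h, mul_inv_cancel]
          have h2 := hσΦ σ⁻¹ _ ((hπ1 _).1 h1)
          rw [MulAut.inv_apply_self] at h2
          refine hefix ?_
          have h3 : e * u⁻¹ ∈ fixed y := hΦfix _ h2
          have := mul_mem h3 hufix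
          rwa [inv_mul_cancel_right] at this
        · exact Or.inl h
        · exact Or.inr h
      rcases hπz e a with ha | ha
      · left
        have h1 : π (σ (e ^ a)) = 1 := (hπ1 _).2 (hσΦ σ _ ((hπ1 _).1 ha))
        rw [map_mul σ, map_mul, h1, hbu, map_mul, ha]
      · rcases hcase with h | h
        · left
          have h1 : π (σ (e ^ a)) = π (e ^ a) := by rw [map_zpow, map_zpow, map_zpow, h]
          rw [map_mul σ, map_mul, h1, hbu, map_mul]
        · right
          have h1 : π (σ (e ^ a)) = π e * π u := by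
            rcases Int.even_or_odd a with ⟨c, rfl⟩ | ⟨c, rfl⟩
            · exfalso
              have : π (e ^ (c + c)) = 1 := by rw [hπ1, ← two_mul]; exact hsqΦ e c
              rw [ha] at this
              exact hefix (hΦfix e ((hπ1 _).1 this))
            · rw [zpow_add, zpow_one, map_mul σ, map_mul, (hπ1 _).2 (hσΦ σ _ (hsqΦ e c)), one_mul, h]
          have hcu : π u * π (u ^ b) = π (u ^ b) * π u := by
            rw [map_zpow]; exact ((Commute.refl (π u)).zpow_right b).eq
          rw [map_mul σ, map_mul, h1, hbu, map_mul, ha, mul_assoc, hcu, mul_assoc]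
    have hd2 : ∀ t, (σ ^ 2) t * t⁻¹ ∈ Φ := by
      intro t
      rw [← hπ1, map_mul, map_inv, mul_inv_eq_one, pow_two, MulAut.mul_apply]
      have hu' : π (σ u) = π u := hv
      rcases hd t with h | h
      · have h' : σ t * t⁻¹ ∈ Φ := by rw [← hπ1, map_mul, map_inv, h, mul_inv_cancel]
        have h2 := (hπ1 _).2 (hσΦ σ _ h')
        rw [map_mul, map_inv, map_mul, map_inv, mul_inv_eq_one] at h2
        rw [h2, h]
      · have h' : σ t * (t * u)⁻¹ ∈ Φ := by rw [← hπ1, map_mul, map_inv, map_mul, h, mul_inv_cancel]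
        have h2 := (hπ1 _).2 (hσΦ σ _ h')
        rw [map_mul σ, map_mul, map_inv, map_inv, map_mul σ, map_mul, mul_inv_eq_one] at h2
        rw [h2, h, hu', mul_assoc, hπ2, mul_one]
    have h1 : σ ^ 2 = 1 := eq_one_of_trivial_frattini hTp (Odd.of_dvd_nat hσ (orderOf_pow_dvd 2)) hd2
    refine hσ1 (orderOf_eq_one_iff.1 ?_)
    rcases (Nat.dvd_prime Nat.prime_two).1 (orderOf_dvd_of_pow_eq_one h1) with h | h
    · exact h
    · rw [h] at hσ; exact absurd hσ (by decide)
  have hv1 : π v ≠ 1 := fun h => huΦ (by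
    have := hσΦ σ⁻¹ _ ((hπ1 _).1 h)
    rwa [hvdef, MulAut.inv_apply_self] at this)
  -- the bracket of `y` with `v` is an odd power of `u`
  have hvfix : v ∉ fixed y := by
    intro h
    refine hefix ?_
    rcases hclass v with h1 | h1 | h1 | h1
    · exact absurd h1 hv1
    · exact absurd h1 hvu
    · have h2 : v⁻¹ * e ∈ Φ := by rw [← hπ1, map_mul, map_inv, h1, inv_mul_cancel]
      have h3 : v⁻¹ * e ∈ fixed y := hΦfix _ h2
      have := mul_mem h h3
      rwa [mul_inv_cancel_left] at this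
    · have h2 : v⁻¹ * (e * u) ∈ Φ := by rw [← hπ1, map_mul, map_inv, h1, map_mul, inv_mul_cancel]
      have h3 : v⁻¹ * (e * u) ∈ fixed y := hΦfix _ h2
      have := mul_mem (mul_mem h h3) (inv_mem hufix)
      rwa [mul_inv_cancel_left, mul_inv_cancel_right] at this
  set j := f v with hjdef
  have hjodd : Odd j := by
    rw [← Int.not_even_iff_odd]
    rintro ⟨a, ha⟩
    refine hvfix ?_
    show act y v * v⁻¹ ∈ Φ
    rw [hf v, mul_inv_cancel_right, ← hjdef, ha, ← two_mul]
    exact hsqΦ u a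
  set c := u ^ (2 * j) with hcdef
  have huv : u * v * u⁻¹ = c * v := by
    have h2 : act y (act y v) = c * v := by
      rw [hf v, hact_mul, ← hjdef, hf v, ← hjdef, ← mul_assoc]
      have : act y (u ^ j) = u ^ j := Subtype.ext (by
        show (y : K) * (((u ^ j : T)) : K) * (y : K)⁻¹ = (((u ^ j : T)) : K)
        rw [SubgroupClass.coe_zpow, ← conj_zpow]
        congr 1
        exact congrArg Subtype.val huf)
      rw [this, ← zpow_add, hcdef, two_mul]
    rw [← h2]
    exact Subtype.ext (by show (y : K) ^ 2 * (v : K) * ((y : K) ^ 2)⁻¹ = (y : K) * ((y : K) * v * (y : K)⁻¹) * (y : K)⁻¹; simp [pow_two, mul_assoc])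
  -- `⟨u⟩` is normal in `T`, hence so is `⟨v⟩`
  have hun : ∀ t : T, t * u * t⁻¹ ∈ Subgroup.zpowers u := fun t =>
    hNTu _ ((inferInstance : N.Normal).conj_mem _ hucN t)
  have hvn : ∀ t : T, t * v * t⁻¹ ∈ Subgroup.zpowers v := fun t => by
    obtain ⟨i, hi⟩ := Subgroup.mem_zpowers_iff.1 (hun (σ⁻¹ t))
    refine Subgroup.mem_zpowers_iff.2 ⟨i, ?_⟩
    rw [hvdef, ← map_zpow, hi, map_mul, map_mul, map_inv, MulAut.apply_inv_self]
  obtain ⟨i, hi⟩ := Subgroup.mem_zpowers_iff.1 (hvn u)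
  have hcv : Commute c v := by
    have h1 : c = v ^ (i - 1) := by
      rw [zpow_sub, zpow_one, hi, huv, mul_inv_cancel_right]
    rw [h1]; exact (Commute.refl v).zpow_left _
  have hcu : Commute c u := (Commute.refl u).zpow_left _
  have huv' : u * v = c * v * u := mul_inv_eq_iff_eq_mul.1 huv
  -- `u ^ 4 = 1`
  obtain ⟨n, hn⟩ := IsPGroup.iff_orderOf.1 hTp u
  obtain ⟨a, b, hab⟩ : IsCoprime j ((2 : ℤ) ^ n) := by
    refine IsCoprime.pow_right ?_
    obtain ⟨d, hd⟩ := hjodd
    exact ⟨1, -d, by rw [hd]; ring⟩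
  have hu2 : u ^ (2 : ℤ) = c ^ a := by
    rw [hcdef, ← zpow_mul]
    have h1 : u ^ (((2 : ℤ) ^ n) * (2 * b)) = 1 := by
      rw [zpow_mul, show ((2 : ℤ) ^ n) = ((2 ^ n : ℕ) : ℤ) by push_cast; rfl, zpow_natCast, ← hn,
        pow_orderOf_eq_one, one_zpow]
    have e : u ^ (2 : ℤ) = u ^ (2 * j * a + ((2 : ℤ) ^ n) * (2 * b)) :=
      congrArg (u ^ ·) (by linear_combination -(2 : ℤ) * hab)
    rw [e, zpow_add, h1, mul_one]
  have hu4 : u ^ (4 : ℤ) = 1 := by
    have h1 : Commute (u ^ (2 : ℤ)) v := hu2 ▸ hcv.zpow_left a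
    have h2 : u ^ (2 : ℤ) * v = c * c * v * u ^ (2 : ℤ) := by
      calc u ^ (2 : ℤ) * v = u * (u * v) := by rw [zpow_two, mul_assoc]
        _ = (u * c) * v * u := by rw [huv']; group
        _ = c * (u * v) * u := by rw [← hcu.eq]; group
        _ = _ := by rw [huv', zpow_two]; group
    rw [h1.eq] at h2
    have h3 : c * c = 1 := by
      have := mul_right_cancel h2
      exact mul_right_cancel (b := v) (by rw [one_mul]; exact this.symm)
    have h4 : u ^ (4 : ℤ) = (u ^ (2 : ℤ)) ^ (2 : ℤ) := by rw [← zpow_mul]; norm_num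
    rw [h4, hu2, ← zpow_mul, mul_comm a, zpow_mul, zpow_ofNat, pow_two, h3, one_zpow]
  -- `u` and `v` generate
  have hgen : ∀ t : T, t ∈ Subgroup.zpowers v ⊔ Subgroup.zpowers u := by
    have htop : (Subgroup.zpowers v ⊔ Subgroup.zpowers u) ⊔ frattini T = ⊤ := by
      refine eq_top_iff.2 fun t _ => ?_
      set W := (Subgroup.zpowers v ⊔ Subgroup.zpowers u) ⊔ frattini T
      have hmem : ∀ s w : T, w ∈ W → π s = π w → s ∈ W := fun s w hw h => by
        have h1 : w⁻¹ * s ∈ Φ := by rw [← hπ1, map_mul, map_inv, h, inv_mul_cancel]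
        have := mul_mem hw (Subgroup.mem_sup_right h1 : w⁻¹ * s ∈ W)
        rwa [mul_inv_cancel_left] at this
      have hv' : v ∈ W := Subgroup.mem_sup_left (Subgroup.mem_sup_left (Subgroup.mem_zpowers v))
      have hu' : u ∈ W := Subgroup.mem_sup_left (Subgroup.mem_sup_right (Subgroup.mem_zpowers u))
      have he' : e ∈ W := by
        rcases hclass v with h1 | h1 | h1 | h1
        · exact absurd h1 hv1
        · exact absurd h1 hvu
        · exact hmem e v hv' h1.symm
        · refine hmem e (v * u) (mul_mem hv' hu') ?_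
          rw [map_mul, h1, mul_assoc, hπ2, mul_one]
      obtain ⟨a, b, rfl⟩ := he t
      exact mul_mem (zpow_mem he' a) (zpow_mem hu' b)
    have := frattini_nongenerating htop
    intro t; rw [this]; trivial
  haveI hnv : (Subgroup.zpowers v).Normal := ⟨fun w hw t => by
    obtain ⟨k, rfl⟩ := Subgroup.mem_zpowers_iff.1 hw
    rw [← conj_zpow]; exact Subgroup.zpow_mem _ (hvn t) k⟩
  have hnf : ∀ t : T, ∃ a b : ℤ, t = v ^ a * u ^ b := fun t => by
    have ht := hgen t
    rw [← SetLike.mem_coe, Subgroup.normal_mul] at ht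
    obtain ⟨_, ⟨a, rfl⟩, _, ⟨b, rfl⟩, rfl⟩ := ht
    exact ⟨a, b, rfl⟩
  have hv4 : v ^ (4 : ℤ) = 1 := by rw [hvdef, ← map_zpow, hu4, map_one]
  obtain ⟨m, hm⟩ := IsPGroup.iff_card.1 hTp
  by_cases hsq : u ^ (2 : ℤ) = 1
  · left
    have hv2 : v ^ (2 : ℤ) = 1 := by rw [hvdef, ← map_zpow, hsq, map_one]
    let F : Fin 2 × Fin 2 → T := fun q => v ^ (q.1 : ℤ) * u ^ (q.2 : ℤ)
    have hF : Function.Surjective F := fun t => by
      obtain ⟨a, b, rfl⟩ := hnf t
      refine ⟨(⟨(a % 2).toNat, by omega⟩, ⟨(b % 2).toNat, by omega⟩), ?_⟩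
      show v ^ (((a % 2).toNat : ℕ) : ℤ) * u ^ (((b % 2).toNat : ℕ) : ℤ) = _
      rw [Int.toNat_of_nonneg (Int.emod_nonneg _ (by norm_num)), Int.toNat_of_nonneg (Int.emod_nonneg _ (by norm_num)),
        ← zpow_eq_zpow_emod a hv2,
        ← zpow_eq_zpow_emod b hsq]
    have hle : Nat.card T ≤ 4 := (Nat.card_le_card_of_surjective F hF).trans (by simp)
    have hge : 2 < Nat.card T := by
      let G3 : Fin 3 → T := ![1, u, v]
      have : Function.Injective G3 := by
        intro a b hab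
        fin_cases a <;> fin_cases b <;> simp [G3] at hab ⊢
        all_goals first
          | exact huΦ (hab ▸ Φ.one_mem) | exact huΦ (hab.symm ▸ Φ.one_mem)
          | exact hv1 (by rw [← hab, map_one]) | exact hv1 (by rw [hab, map_one])
          | exact hvu (by rw [hab]) | exact hvu (by rw [← hab])
      exact lt_of_lt_of_le (by simp) (Nat.card_le_card_of_injective G3 this)
    rw [hm] at hle hge ⊢
    have h1 : m ≤ 2 := (Nat.pow_le_pow_iff_right (show 1 < 2 by norm_num)).1 (by simpa using hle)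
    interval_cases m <;> simp at hge ⊢
  · right
    have hne : ¬ IsMulCommutative T := by
      intro h
      have h1 : u * v * u⁻¹ = v := by rw [h.is_comm.comm u v, mul_inv_cancel_right]
      rw [huv, mul_eq_right] at h1
      refine hsq ?_
      rw [hu2, h1, one_zpow]
    have hc2 : u ^ (2 : ℤ) = v ^ (2 : ℤ) := by
      have h1 : u ^ (2 : ℤ) = v ^ ((i - 1) * a) := by
        rw [hu2, zpow_mul]; congr 1
        rw [zpow_sub, zpow_one, hi, huv, mul_inv_cancel_right]
      rcases Int.even_or_odd ((i - 1) * a) with ⟨d, hd⟩ | ⟨d, hd⟩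
      · rcases Int.even_or_odd d with ⟨d', rfl⟩ | ⟨d', rfl⟩
        · exfalso
          refine hsq ?_
          rw [h1, hd, show d' + d' + (d' + d') = 4 * d' by ring, zpow_mul, hv4, one_zpow]
        · rw [h1, hd, show 2 * d' + 1 + (2 * d' + 1) = 4 * d' + 2 by ring, zpow_add, zpow_mul, hv4, one_zpow,
            one_mul]
      · exfalso
        refine hv1 ((hπ1 _).2 ?_)
        have h2 : v ^ (2 * d + 1) ∈ Φ := by
          rw [← hd, ← h1]; simpa using hsqΦ u 1
        have h3 := Φ.mul_mem (Φ.inv_mem (hsqΦ v d)) h2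
        rwa [zpow_add, zpow_one, inv_mul_cancel_left] at h3
    let F : Fin 4 × Fin 2 → T := fun q => v ^ (q.1 : ℤ) * u ^ (q.2 : ℤ)
    have hF : Function.Surjective F := fun t => by
      obtain ⟨a', b', rfl⟩ := hnf t
      refine ⟨(⟨((a' + 2 * (b' / 2)) % 4).toNat, by omega⟩, ⟨(b' % 2).toNat, by omega⟩), ?_⟩
      show v ^ ((((a' + 2 * (b' / 2)) % 4).toNat : ℕ) : ℤ) * u ^ (((b' % 2).toNat : ℕ) : ℤ) = _
      rw [Int.toNat_of_nonneg (Int.emod_nonneg _ (by norm_num)), Int.toNat_of_nonneg (Int.emod_nonneg _ (by norm_num)),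
        ← zpow_eq_zpow_emod (a' + 2 * (b' / 2)) hv4]
      conv_rhs => rw [← Int.mul_ediv_add_emod b' 2, zpow_add, zpow_mul, hc2, ← zpow_mul, ← mul_assoc, ← zpow_add]
    have hle : Nat.card T ≤ 8 := (Nat.card_le_card_of_surjective F hF).trans (by simp)
    refine ⟨?_, hne⟩
    rw [hm] at hle ⊢
    have h3 : m ≤ 3 := (Nat.pow_le_pow_iff_right (show 1 < 2 by norm_num)).1 (by simpa using hle)
    interval_cases m
    · exact absurd (by
        haveI := (Nat.card_eq_one_iff_unique.1 (hm.trans (pow_zero _))).1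
        exact ⟨⟨fun a b => Subsingleton.elim _ _⟩⟩) hne
    · exact absurd (by
        haveI := isCyclic_of_prime_card (α := T) (p := 2) (hm.trans (pow_one _))
        exact IsCyclic.isMulCommutative) hne
    · exact absurd (IsPGroup.isMulCommutative_of_card_eq_prime_sq (p := 2) hm) hne
    · norm_num

end CfsgLib.MetaTwo
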